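import Mathlib.FieldTheory.Galois.Basic
import Mathlib.FieldTheory.Perfect
import Mathlib.Algebra.CharP.Lemmas

/-!
Artin–Schreier generators of Galois extensions of degree `p`.
-/

set_option autoImplicit false

universe u v

namespace Groth.Agent.H02CA.ASNormal

variable {F : Type u} {E : Type v} [Field F] [Field E] [Algebra F E]

theorem toLinearMap_pow (σ : E ≃ₐ[F] E) (n : ℕ) (y : E) :
    ((σ.toLinearMap) ^ n) y = (σ ^ n) y := by
  induction n generalizing y with
  | zero => rfl
  | succ n ih => rw [pow_succ, pow_succ, Module.End.mul_apply, AlgEquiv.mul_apply, ih]; rfl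

theorem exists_generator (p : ℕ) [hp : Fact p.Prime] [CharP F p] [FiniteDimensional F E] [IsGalois F E]
    (hdeg : Module.finrank F E = p) :
    ∃ (x : E) (α : F), IntermediateField.adjoin F {x} = ⊤ ∧ x ∉ Set.range (algebraMap F E) ∧
      x ^ p - x + algebraMap F E α = 0 := by
  haveI : CharP E p := charP_of_injective_algebraMap (algebraMap F E).injective p
  have hcard : Nat.card (E ≃ₐ[F] E) = p := (IsGalois.card_aut_eq_finrank F E).trans hdeg
  haveI : Finite (E ≃ₐ[F] E) := Nat.finite_of_card_ne_zero (hcard ▸ hp.out.ne_zero)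
  haveI : Nontrivial (E ≃ₐ[F] E) :=
    Finite.one_lt_card_iff_nontrivial.1 (hcard ▸ hp.out.one_lt)
  obtain ⟨σ, hσ⟩ := exists_ne (1 : E ≃ₐ[F] E)
  have hσp : σ ^ p = 1 := hcard ▸ pow_card_eq_one'
  have hfix : ∀ y : E, σ y = y → y ∈ Set.range (algebraMap F E) := fun y hy => by
    rw [IsGalois.mem_range_algebraMap_iff_fixed]
    intro τ
    have hz : τ ∈ Subgroup.zpowers σ := by
      rw [zpowers_eq_top_of_prime_card hcard hσ]; trivial
    have hs : Subgroup.zpowers σ ≤ MulAction.stabilizer (E ≃ₐ[F] E) y :=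
      Subgroup.zpowers_le.2 hy
    exact hs hz
  let D : Module.End F E := σ.toLinearMap - 1
  have hDy : ∀ y, D y = σ y - y := fun y => rfl
  have hDp : D ^ p = 0 := by
    haveI : CharP (Module.End F E) p :=
      charP_of_injective_algebraMap (FaithfulSMul.algebraMap_injective F (Module.End F E)) p
    show ((σ.toLinearMap : Module.End F E) - 1) ^ p = 0
    rw [sub_pow_char_of_commute _ (Commute.one_right _), one_pow, sub_eq_zero]
    ext y
    rw [toLinearMap_pow, hσp]
    rfl
  obtain ⟨y, hy2, hy1⟩ : ∃ y, D (D y) = 0 ∧ D y ≠ 0 := by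
    by_contra h
    push Not at h
    have hall : ∀ n (y : E), (D ^ (n + 1)) y = 0 → D y = 0 := by
      intro n
      induction n with
      | zero => intro y hy; simpa using hy
      | succ n ih =>
        intro y hy
        rw [pow_succ, Module.End.mul_apply] at hy
        exact h y (ih _ hy)
    refine hσ (AlgEquiv.ext fun y => ?_)
    have h0 := hall (p - 1) y (by rw [Nat.sub_add_cancel hp.out.one_le, hDp]; rfl)
    rw [hDy, sub_eq_zero] at h0
    exact h0
  set z := D y with hz
  obtain ⟨c, hc⟩ := hfix z (sub_eq_zero.1 ((hDy z).symm.trans hy2))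
  have hzσ : σ z = z := by rw [← hc, AlgEquiv.commutes]
  have hx : σ (y / z) = y / z + 1 := by
    rw [map_div₀, hzσ, show σ y = y + z by rw [hz, hDy, add_sub_cancel], add_div, div_self hy1]
  obtain ⟨α, hα⟩ := hfix ((y / z) ^ p - y / z) (by
    rw [map_sub, map_pow, hx, add_pow_char, one_pow, add_sub_add_right_eq_sub])
  have hnot : y / z ∉ Set.range (algebraMap F E) := by
    rintro ⟨a, ha⟩
    rw [← ha, AlgEquiv.commutes] at hx
    exact one_ne_zero (left_eq_add.1 hx)
  refine ⟨y / z, -α, ?_, hnot, by rw [map_neg, hα, ← sub_eq_add_neg, sub_self]⟩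
  haveI := IntermediateField.isSimpleOrder_of_finrank_prime F E (hdeg ▸ hp.out)
  refine (eq_bot_or_eq_top _).resolve_left fun h => hnot ?_
  exact IntermediateField.mem_bot.1 (h ▸ IntermediateField.mem_adjoin_simple_self F (y / z))

end Groth.Agent.H02CA.ASNormal
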