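import Groth.Agent.H02CA.ASNormal.Generator
import Mathlib.RingTheory.RamificationInertia.Basic
import Mathlib.RingTheory.DedekindDomain.Ideal.Lemmas
import Mathlib.RingTheory.PowerSeries.Inverse
import Mathlib.RingTheory.Henselian
import Mathlib.RingTheory.AdicCompletion.Completeness
import Mathlib.RingTheory.Algebraic.Integral
import Mathlib.RingTheory.Flat.TorsionFree
import Mathlib.RingTheory.LocalRing.ResidueField.Basic
import Mathlib.FieldTheory.Finite.Basic

/-!
Normal form of a totally ramified Artin–Schreier extension of the Laurent series field.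
-/

set_option autoImplicit false
set_option linter.style.haveILetI false

universe u

open PowerSeries

namespace Groth.Agent.H02CA.ASNormal

attribute [local instance] FractionRing.liftAlgebra

variable (p : ℕ) [hp : Fact p.Prime] {K : Type u} [Field K] [CharP K p]

theorem charP_powerSeries : CharP (PowerSeries K) p :=
  charP_of_injective_ringHom (PowerSeries.C_injective (R := K)) p

/-- A solution of the equation in the residue field lifts. -/
theorem exists_root_of_constantCoeff (a : PowerSeries K) (c : K)
    (hc : c ^ p - c + constantCoeff a = 0) : ∃ r : PowerSeries K, r ^ p - r + a = 0 := by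
  have hmem : ∀ f : PowerSeries K, f ∈ Ideal.span {(X : PowerSeries K)} ↔ constantCoeff f = 0 := fun f => by
    rw [Ideal.mem_span_singleton, PowerSeries.X_dvd_iff]
  haveI := charP_powerSeries p (K := K)
  have hmonic : (Polynomial.X ^ p - (Polynomial.X - Polynomial.C a) : Polynomial (PowerSeries K)).Monic :=
    Polynomial.monic_X_pow_sub (by rw [Polynomial.degree_X_sub_C]; exact_mod_cast hp.out.one_lt)
  obtain ⟨r, hr, -⟩ := HenselianRing.is_henselian (R := PowerSeries K) (I := Ideal.span {X})
    (Polynomial.X ^ p - (Polynomial.X - Polynomial.C a)) hmonic (C c)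
    (by
      rw [hmem]
      simp only [Polynomial.eval_sub, Polynomial.eval_pow, Polynomial.eval_X, Polynomial.eval_C,
        map_sub, map_pow, PowerSeries.constantCoeff_C]
      rw [← hc]; ring)
    (by
      have : Polynomial.derivative (Polynomial.X ^ p - (Polynomial.X - Polynomial.C a) :
          Polynomial (PowerSeries K)) = -1 := by
        simp [Polynomial.derivative_X_pow, CharP.cast_eq_zero (PowerSeries K) p]
      rw [this, Polynomial.eval_neg, Polynomial.eval_one, map_neg, map_one]
      exact isUnit_one.neg)
  refine ⟨r, ?_⟩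
  have h := hr.eq_zero
  simp only [Polynomial.eval_sub, Polynomial.eval_pow, Polynomial.eval_X, Polynomial.eval_C] at h
  rw [← h]; ring

variable {B : Type u} [CommRing B] [IsDedekindDomain B]
    [Algebra (PowerSeries K) B] [Module.Finite (PowerSeries K) B] [Module.IsTorsionFree (PowerSeries K) B]

/-- Residues are constants. -/
theorem exists_const (hdeg : Module.finrank (FractionRing (PowerSeries K)) (FractionRing B) = p)
    (M : Ideal B) [M.IsMaximal] (hram : M.ramificationIdx (PowerSeries K) = p) (b : B) :
    ∃ a : PowerSeries K, b - algebraMap _ B a ∈ M := by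
  haveI : IsDomain (PowerSeries K) := inferInstance
  haveI : FaithfulSMul (PowerSeries K) B := inferInstance
  set P := M.under (PowerSeries K)
  haveI : P.IsMaximal := Ideal.isMaximal_comap_of_isIntegral_of_isMaximal M
  haveI : M.LiesOver P := ⟨rfl⟩
  haveI : Module.Free (PowerSeries K) B := inferInstance
  haveI : Fintype (P.primesOver B) := inferInstance
  have hfr : Module.finrank (PowerSeries K) B = p := by
    refine Eq.trans ?_ hdeg
    rw [Module.finrank, Module.finrank, Algebra.IsAlgebraic.rank_fractionRing]
  have hle := Finset.single_le_sum (f := fun q : P.primesOver B =>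
      q.1.ramificationIdx (PowerSeries K) * q.1.inertiaDeg (PowerSeries K))
    (fun _ _ => Nat.zero_le _) (Finset.mem_univ (⟨M, ‹M.IsMaximal›.isPrime, ⟨rfl⟩⟩ : P.primesOver B))
  rw [Ideal.sum_ramification_inertia_eq_finrank, hfr] at hle
  simp only [hram] at hle
  have hone : M.inertiaDeg (PowerSeries K) = 1 := by
    have h1 : 0 < M.inertiaDeg (PowerSeries K) := Ideal.inertiaDeg_pos M (PowerSeries K)
    have h2 : M.inertiaDeg (PowerSeries K) ≤ 1 :=
      Nat.le_of_mul_le_mul_left (by rw [mul_one]; exact hle) hp.out.pos
    omega
  rw [Ideal.inertiaDeg_eq_of_isMaximal P M] at hone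
  letI := Ideal.Quotient.field P
  obtain ⟨k, hk⟩ := (finrank_eq_one_iff_of_nonzero' (1 : B ⧸ M) one_ne_zero).1 hone (Ideal.Quotient.mk M b)
  obtain ⟨a, rfl⟩ := Ideal.Quotient.mk_surjective k
  refine ⟨a, Ideal.Quotient.eq.1 ?_⟩
  rw [← hk, Algebra.smul_def, mul_one]
  rfl

/-- There is no solution integral over the power series. -/
theorem not_integral_solution [Algebra.IsIntegral (PowerSeries K) B]
    (hdeg : Module.finrank (FractionRing (PowerSeries K)) (FractionRing B) = p)
    (M : Ideal B) [M.IsMaximal] (hram : M.ramificationIdx (PowerSeries K) = p) (a : PowerSeries K)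
    (x : FractionRing B) (hx : x ∉ Set.range (algebraMap (FractionRing (PowerSeries K)) (FractionRing B)))
    (heq : x ^ p - x + algebraMap (PowerSeries K) (FractionRing B) a = 0) : False := by
  have hint : IsIntegral B x := by
    refine ⟨Polynomial.X ^ p - (Polynomial.X - Polynomial.C (algebraMap _ B a)),
      Polynomial.monic_X_pow_sub (by rw [Polynomial.degree_X_sub_C]; exact_mod_cast hp.out.one_lt), ?_⟩
    simp only [Polynomial.eval₂_sub, Polynomial.eval₂_pow, Polynomial.eval₂_X, Polynomial.eval₂_C,
      ← IsScalarTower.algebraMap_apply]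
    rw [← heq]; ring
  obtain ⟨b, rfl⟩ := IsIntegrallyClosed.isIntegral_iff.1 hint
  have hb : b ^ p - b + algebraMap _ B a = 0 := by
    apply IsFractionRing.injective B (FractionRing B)
    rw [map_add, map_sub, map_pow, map_zero, ← IsScalarTower.algebraMap_apply]
    exact heq
  obtain ⟨w, hw⟩ := exists_const p hdeg M hram b
  haveI := charP_powerSeries p (K := K)
  haveI : CharP B p := charP_of_injective_algebraMap (FaithfulSMul.algebraMap_injective (PowerSeries K) B) p
  have hmem : w ^ p - w + a ∈ M.under (PowerSeries K) := by
    show algebraMap _ B (w ^ p - w + a) ∈ M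
    have h2 : (b - algebraMap _ B w) ^ p - (b - algebraMap _ B w) ∈ M :=
      sub_mem (Ideal.pow_mem_of_mem _ hw p hp.out.pos) hw
    rw [sub_pow_char] at h2
    have : algebraMap (PowerSeries K) B (w ^ p - w + a) =
        (b ^ p - b + algebraMap _ B a) -
          (b ^ p - algebraMap _ B w ^ p - (b - algebraMap _ B w)) := by
      rw [map_add, map_sub, map_pow]; ring
    rw [this, hb, zero_sub]
    exact neg_mem h2
  have hmax : M.under (PowerSeries K) = Ideal.span {X} := by
    rw [← PowerSeries.maximalIdeal_eq_span_X]
    exact IsLocalRing.eq_maximalIdeal (Ideal.isMaximal_comap_of_isIntegral_of_isMaximal M)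
  rw [hmax, Ideal.mem_span_singleton, PowerSeries.X_dvd_iff] at hmem
  simp only [map_add, map_sub, map_pow] at hmem
  obtain ⟨r, hr⟩ := exists_root_of_constantCoeff p a _ hmem
  haveI : CharP (FractionRing B) p := charP_of_injective_algebraMap (IsFractionRing.injective B (FractionRing B)) p
  set d := algebraMap B (FractionRing B) b - algebraMap (PowerSeries K) (FractionRing B) r
  have hd : d ^ p = d := by
    have h1 : algebraMap (PowerSeries K) (FractionRing B) r ^ p -
        algebraMap (PowerSeries K) (FractionRing B) r + algebraMap (PowerSeries K) (FractionRing B) a = 0 := by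
      rw [← map_pow, ← map_sub, ← map_add, hr, map_zero]
    rw [sub_pow_char]
    linear_combination heq - h1
  obtain ⟨n, hn⟩ : ∃ n : ℕ, (n : FractionRing B) = d := by
    have h : d ∈ (⊥ : Subfield (FractionRing B)) := (Subfield.mem_bot_iff_pow_eq_self _ p).2 hd
    have hle : (⊥ : Subfield (FractionRing B)) ≤ (ZMod.castHom (dvd_refl p) (FractionRing B)).fieldRange := bot_le
    obtain ⟨n, hn⟩ := hle h
    exact ⟨n.val, by rw [← hn, ZMod.castHom_apply, ZMod.natCast_val]⟩
  refine hx ⟨algebraMap (PowerSeries K) _ r + n, ?_⟩
  rw [map_add, map_natCast, ← IsScalarTower.algebraMap_apply, hn]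
  exact add_sub_cancel _ _

/-- The reduction of the pole order. -/
theorem exists_normal_form [PerfectField K] [Algebra.IsIntegral (PowerSeries K) B]
    [FiniteDimensional (FractionRing (PowerSeries K)) (FractionRing B)]
    (hdeg : Module.finrank (FractionRing (PowerSeries K)) (FractionRing B) = p)
    (M : Ideal B) [M.IsMaximal] (hram : M.ramificationIdx (PowerSeries K) = p) :
    ∀ (m : ℕ) (a : PowerSeries K) (x : FractionRing B),
      x ∉ Set.range (algebraMap (FractionRing (PowerSeries K)) (FractionRing B)) →
      x ^ p - x + algebraMap (FractionRing (PowerSeries K)) (FractionRing B)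
        (algebraMap (PowerSeries K) (FractionRing (PowerSeries K)) a /
          algebraMap (PowerSeries K) (FractionRing (PowerSeries K)) (X ^ m)) = 0 →
      ∃ x : FractionRing B, ∃ m : ℕ, ∃ a : PowerSeries K,
        x ∉ Set.range (algebraMap (FractionRing (PowerSeries K)) (FractionRing B)) ∧ 0 < m ∧ ¬ p ∣ m ∧
        constantCoeff a ≠ 0 ∧
        x ^ p - x + algebraMap (FractionRing (PowerSeries K)) (FractionRing B)
          (algebraMap (PowerSeries K) (FractionRing (PowerSeries K)) a /
            algebraMap (PowerSeries K) (FractionRing (PowerSeries K)) (X ^ m)) = 0 := by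
  intro m
  induction m with
  | zero =>
    intro a x hx heq
    rw [pow_zero, map_one, div_one, ← IsScalarTower.algebraMap_apply] at heq
    exact (not_integral_solution p hdeg M hram a x hx heq).elim
  | succ m ih =>
    intro a x hx heq
    have hX : algebraMap (PowerSeries K) (FractionRing (PowerSeries K)) X ≠ 0 :=
      IsFractionRing.to_map_ne_zero_of_mem_nonZeroDivisors (mem_nonZeroDivisors_of_ne_zero PowerSeries.X_ne_zero)
    by_cases ha : constantCoeff a = 0
    · obtain ⟨a', rfl⟩ := PowerSeries.X_dvd_iff.2 ha
      refine ih a' x hx ?_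
      rw [← heq]
      congr 2
      rw [pow_succ', map_mul, map_mul, mul_div_mul_left _ _ hX]
    by_cases hpm : p ∣ m + 1
    · obtain ⟨k, hk⟩ := hpm
      haveI : PerfectRing K p := PerfectField.toPerfectRing p
      obtain ⟨c, hc⟩ := surjective_frobenius K p (constantCoeff a)
      rw [frobenius_def] at hc
      have hk0 : 0 < k := Nat.pos_of_ne_zero fun h => by simp [h] at hk
      have hkm : k < m + 1 := by
        rw [hk]; exact lt_mul_of_one_lt_left hk0 hp.out.one_lt
      obtain ⟨j, hj⟩ : ∃ j, m + 1 = k + (j + 1) := ⟨m - k, by omega⟩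
      set g : FractionRing (PowerSeries K) :=
        algebraMap (PowerSeries K) _ (C c) / algebraMap (PowerSeries K) _ (X ^ k) with hg
      haveI := charP_powerSeries p (K := K)
      haveI : CharP (FractionRing (PowerSeries K)) p :=
        charP_of_injective_algebraMap (IsFractionRing.injective (PowerSeries K) (FractionRing (PowerSeries K))) p
      haveI : CharP (FractionRing B) p :=
        charP_of_injective_algebraMap (algebraMap (FractionRing (PowerSeries K)) _).injective p
      obtain ⟨a', ha'⟩ := PowerSeries.X_dvd_iff.2
        (show constantCoeff (a - C (constantCoeff a) + C c * X ^ (j + 1)) = 0 by simp)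
      refine ih a' (x + algebraMap _ _ g) (fun ⟨y, hy⟩ => hx ⟨y - g, by rw [map_sub, hy, add_sub_cancel_right]⟩) ?_
      have hgp : g ^ p = algebraMap (PowerSeries K) _ (C (constantCoeff a)) /
          algebraMap (PowerSeries K) _ (X ^ (m + 1)) := by
        rw [hg, div_pow, ← map_pow, ← map_pow, ← map_pow, hc, ← pow_mul, hk, mul_comm]
      have hval : algebraMap (PowerSeries K) (FractionRing (PowerSeries K)) a' /
          algebraMap (PowerSeries K) _ (X ^ m) =
          algebraMap (PowerSeries K) _ a / algebraMap (PowerSeries K) _ (X ^ (m + 1)) - g ^ p + g := by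
        have h1 := congrArg (algebraMap (PowerSeries K) (FractionRing (PowerSeries K))) ha'
        simp only [map_add, map_sub, map_mul, map_pow] at h1
        rw [hgp, hg]
        simp only [map_pow]
        rw [← sub_div, ← mul_div_mul_left _ (algebraMap _ _ X ^ m) hX, ← pow_succ', ← h1, add_div, hj,
          pow_add, mul_div_mul_right _ _ (pow_ne_zero _ hX)]
      rw [hval, add_pow_char, map_add, map_sub, map_pow (algebraMap (FractionRing (PowerSeries K)) (FractionRing B)) g p, ← heq]
      ring
    · exact ⟨x, m + 1, a, hx, Nat.succ_pos _, hpm, ha, heq⟩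

end Groth.Agent.H02CA.ASNormal
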